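/-
Overgroups of the Singer normaliser and of the `7^(1+2)` normaliser in `SL₇(q)`: vocabulary.
-/
import Mathlib
import Cfsg.Agent.Cl.D5Defs
import Cfsg.Agent.Ch.Orthogonality

set_option autoImplicit false

namespace Cfsg.Agent.S7

open Matrix Cfsg.Geo
open scoped MatrixGroups ComplexConjugate

/-! ### A self-centralising abelian subgroup with automiser of order seven -/

/-- `S` is abelian of order `m`, the centraliser of each of its non-trivial elements, and has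
index seven in its normaliser. -/
structure TID {G : Type*} [Group G] (S : Subgroup G) (m : ℕ) : Prop where
  comm : ∀ a ∈ S, ∀ b ∈ S, a * b = b * a
  card : Nat.card S = m
  cent : ∀ s ∈ S, s ≠ 1 → ∀ g : G, g * s = s * g → g ∈ S
  idx : Nat.card (Subgroup.normalizer (S : Set G)) = 7 * m

/-- Multiplicities of the linear characters of `S` in the restrictions of the irreducible
characters of `G`: `b χ` for the trivial one, `a χ i` for those in the `i`-th orbit. -/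
structure CD {G : Type*} [Group G] [Fintype G] (S : Subgroup G) [Fintype S] (t : ℕ)
    (a : IrrCharacter G → Fin t → ℕ) (b : IrrCharacter G → ℕ) : Prop where
  card : Nat.card S = 7 * t + 1
  two : ∀ i j, i ≠ j → ∑ χ, ((a χ i : ℤ) - a χ j) ^ 2 = 2
  eight : ∀ i, ∑ χ, ((b χ : ℤ) - a χ i) ^ 2 = 8
  deg : ∀ χ : IrrCharacter G, χ.1 1 = ((b χ + 7 * ∑ i, a χ i : ℕ) : ℂ)
  orth : ∀ i j, ∑ χ, ((b χ + 7 * ∑ k, a χ k : ℕ) : ℤ) * ((a χ i : ℤ) - a χ j) = 0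
  bdef : ∀ χ : IrrCharacter G, ∑ s : S, χ.1 s = (Nat.card S : ℂ) * b χ
  sq : ∀ χ : IrrCharacter G,
    ∑ s : S, χ.1 s * conj (χ.1 s) = (Nat.card S : ℂ) * ((b χ ^ 2 + 7 * ∑ i, a χ i ^ 2 : ℕ) : ℂ)
  ker : ∀ χ : IrrCharacter G, (∀ i, a χ i = 0) → ∀ s ∈ S, χ.1 s = χ.1 1
  reg : ∀ (n : IrrCharacter G → ℕ) (d : ℕ), (∀ s ∈ S, s ≠ 1 → ∑ χ, (n χ : ℂ) * χ.1 s = 0) →
    ∑ χ, (n χ : ℂ) * χ.1 1 = (d : ℂ) * Nat.card S →
    (∀ i, ∑ χ, n χ * a χ i = d) ∧ ∑ χ, n χ * b χ = d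

/-- `G` is doubly transitive on `Ω`. -/
def Two (G Ω : Type*) [Group G] [MulAction G Ω] : Prop :=
  ∀ x y x' y' : Ω, x ≠ y → x' ≠ y' → ∃ g : G, g • x = x' ∧ g • y = y'

/-- The number of points of `PG(6, q)`. -/
def th (q : ℕ) : ℕ := q ^ 6 + q ^ 5 + q ^ 4 + q ^ 3 + q ^ 2 + q + 1

/-! ### Linear groups in dimension seven -/

variable {F : Type*} [Field F]

local notation "M7" => Matrix (Fin 7) (Fin 7) F
local notation "SL7" => specialLinear (Fin 7) F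
local notation "Z7" => scalars (Fin 7) F

/-- `S` is the group of elements of determinant one of the field `K`. -/
structure Sing [Fintype F] (K : Subalgebra F M7) (S : Subgroup (GL (Fin 7) F)) : Prop where
  fld : IsFieldSubalgebra 7 K
  mem : ∀ g, g ∈ S ↔ (g : M7) ∈ K ∧ g ∈ SL7
  card : Nat.card S = th (Fintype.card F)
  cardN : Nat.card ↥(subalgebraNormalizer K ⊓ SL7) = 7 * th (Fintype.card F)
  cardZ : Nat.card ↥(Z7 ⊓ SL7) = Nat.gcd 7 (Fintype.card F - 1)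
  free : ∀ s ∈ K, ∀ (v : Fin 7 → F) (c : F), v ≠ 0 → s *ᵥ v = c • v → s = c • (1 : M7)
  cent : ∀ s ∈ S, s ∉ Z7 → ∀ g ∈ SL7, g * s * g⁻¹ * s⁻¹ ∈ Z7 → g ∈ S
  norm : ∀ s : GL (Fin 7) F, (s : M7) ∈ K → s ∉ Z7 → ∀ g : GL (Fin 7) F,
    ((g * s * g⁻¹ : GL (Fin 7) F) : M7) ∈ K → g ∈ subalgebraNormalizer K
  idx : Nat.gcd 7 (Fintype.card F - 1) * Nat.card ↥(S ⊔ Z7) = Fintype.card F ^ 7 - 1

/-- Two independent vectors. -/
def Ind2 (a b : Fin 7 → F) : Prop := ∀ s t : F, s • a + t • b = 0 → s = 0 ∧ t = 0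

/-- The span of two vectors. -/
abbrev sp (a b : Fin 7 → F) : Submodule F (Fin 7 → F) := Submodule.span F {a, b}

/-- `G` is doubly transitive on the points. -/
def TwoT (G : Subgroup (GL (Fin 7) F)) : Prop :=
  ∀ a b a' b' : Fin 7 → F, Ind2 a b → Ind2 a' b' →
    ∃ g ∈ G, ∃ s t : F, (g : M7) *ᵥ a = s • a' ∧ (g : M7) *ᵥ b = t • b'

/-- Transitivity on functionals, on flags and on antiflags. -/
structure Flag (G : Subgroup (GL (Fin 7) F)) : Prop where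
  dual : ∀ η ζ : Fin 7 → F, η ≠ 0 → ζ ≠ 0 → ∃ g ∈ G, η ᵥ* (g : M7) = ζ
  on : ∀ η x y : Fin 7 → F, η ≠ 0 → x ≠ 0 → y ≠ 0 → η ⬝ᵥ x = 0 → η ⬝ᵥ y = 0 →
    ∃ g ∈ G, η ᵥ* (g : M7) = η ∧ ∃ s : F, (g : M7) *ᵥ x = s • y
  off : ∀ η x y : Fin 7 → F, η ⬝ᵥ x = 1 → η ⬝ᵥ y = 1 →
    ∃ g ∈ G, η ᵥ* (g : M7) = η ∧ (g : M7) *ᵥ x = y

/-- The stabiliser of the point `x` and the vector `y` is transitive on the hyperplanes
through `x` and not through `y`. -/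
def Tri (G : Subgroup (GL (Fin 7) F)) : Prop :=
  ∀ x y η ζ : Fin 7 → F, x ≠ 0 → η ⬝ᵥ x = 0 → ζ ⬝ᵥ x = 0 → η ⬝ᵥ y = 1 → ζ ⬝ᵥ y = 1 →
    ∃ g ∈ G, (∃ s : F, (g : M7) *ᵥ x = s • x) ∧ (g : M7) *ᵥ y = y ∧ η ᵥ* (g : M7) = ζ

/-- `G` induces all elations on every plane. -/
def Tr (G : Subgroup (GL (Fin 7) F)) : Prop :=
  ∀ a b x : Fin 7 → F, Ind2 a b → x ∉ sp a b → ∀ u ∈ sp a b,
    ∃ g ∈ G, (g : M7) *ᵥ a = a ∧ (g : M7) *ᵥ b = b ∧ (g : M7) *ᵥ x = x + u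

/-- The standing hypotheses on a doubly transitive group. -/
structure CK (G : Subgroup (GL (Fin 7) F)) : Prop where
  sc : Z7 ≤ G
  two : TwoT G
  flag : Flag G
  tr : Tr G

/-- The stabiliser of two vectors. -/
def fix2 (G : Subgroup (GL (Fin 7) F)) (a b : Fin 7 → F) : Subgroup (GL (Fin 7) F) where
  carrier := {g | g ∈ G ∧ (g : M7) *ᵥ a = a ∧ (g : M7) *ᵥ b = b}
  one_mem' := ⟨G.one_mem, by simp, by simp⟩
  mul_mem' := fun {g h} ⟨g0, g1, g2⟩ ⟨h0, h1, h2⟩ => ⟨G.mul_mem g0 h0,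
    by rw [Units.val_mul, ← mulVec_mulVec, h1, g1], by rw [Units.val_mul, ← mulVec_mulVec, h2, g2]⟩
  inv_mem' := fun {g} ⟨g0, g1, g2⟩ => ⟨G.inv_mem g0,
    by conv_lhs => rw [← g1, mulVec_mulVec, Units.inv_mul, one_mulVec],
    by conv_lhs => rw [← g2, mulVec_mulVec, Units.inv_mul, one_mulVec]⟩

/-- The vectors fixed by `X`. -/
def Fx (X : Subgroup (GL (Fin 7) F)) : Submodule F (Fin 7 → F) where
  carrier := {v | ∀ g ∈ X, (g : M7) *ᵥ v = v}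
  add_mem' h1 h2 g hg := by rw [mulVec_add, h1 g hg, h2 g hg]
  zero_mem' g _ := mulVec_zero _
  smul_mem' c v h g hg := by rw [mulVec_smul, h g hg]

/-- Special functionals. -/
def Sp (G : Subgroup (GL (Fin 7) F)) (a b η : Fin 7 → F) : Prop :=
  η ≠ 0 ∧ η ⬝ᵥ a = 0 ∧ η ⬝ᵥ b = 0 ∧
    ∀ x y, η ⬝ᵥ x = 1 → η ⬝ᵥ y = 1 → ∃ g ∈ fix2 G a b, (g : M7) *ᵥ x = y

/-- The common kernel of the special functionals. -/
def W (G : Subgroup (GL (Fin 7) F)) (a b : Fin 7 → F) : Submodule F (Fin 7 → F) where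
  carrier := {x | ∀ η, Sp G a b η → η ⬝ᵥ x = 0}
  add_mem' h1 h2 η h := by rw [dotProduct_add, h1 η h, h2 η h, add_zero]
  zero_mem' η _ := dotProduct_zero η
  smul_mem' c v h η hη := by rw [dotProduct_smul, h η hη, smul_zero]

/-- `X` is a Sylow `l`-subgroup of `H`. -/
structure Syl (l : ℕ) (X H : Subgroup (GL (Fin 7) F)) : Prop where
  le : X ≤ H
  pg : IsPGroup l X
  nd : ¬ l ∣ X.relIndex H

/-! ### The Weil representation -/

/-- The clock matrix. -/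
def ckM (ω : F) : M7 := diagonal fun i => ω ^ (i : ℕ)

variable (F) in
/-- The shift `e j ↦ e (j + 1)`. -/
def shM : M7 := of fun i j => if i = j + 1 then 1 else 0

/-- The diagonal matrix with entries `ω ^ i ^ 2`. -/
def dqM (ω : F) : M7 := diagonal ![1, ω, ω ^ 4, ω ^ 2, ω ^ 2, ω ^ 4, ω]

variable (F) in
/-- The involution `e j ↦ - e (- j)`. -/
def zM : M7 := of fun i j => if i = -j then -1 else 0

/-- The Fourier matrix. -/
def wM (ω : F) : M7 := of fun i j => ω ^ (2 * (i : ℕ) * (j : ℕ))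

/-- The upper unitriangular generator of `SL₂(7)`. -/
def uu : SL(2, ZMod 7) := ⟨!![1, 1; 0, 1], by decide⟩

/-- The generator of order four of `SL₂(7)`. -/
def ww : SL(2, ZMod 7) := ⟨!![0, 1; -1, 0], by decide⟩

/-- `φ` is the Weil representation. -/
structure Weil (ω : F) (φ : SL(2, ZMod 7) →* GL (Fin 7) F) : Prop where
  hu : (φ uu : M7) = dqM ω
  hz : (φ (-1) : M7) = zM F
  hw : ∃ γ : F, γ * (1 + 2 * (ω + ω ^ 2 + ω ^ 4)) = -1 ∧ (φ ww : M7) = γ • wM ω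

/-- `M ≤ SL₇(F)` contains the clock, the shift and the image of the Weil representation. -/
structure Std (ω : F) (x y : GL (Fin 7) F) (φ : SL(2, ZMod 7) →* GL (Fin 7) F)
    (M : Subgroup (GL (Fin 7) F)) : Prop where
  om : IsPrimitiveRoot ω 7
  gen : ∀ k : Subfield F, ω ∈ k → k = ⊤
  hx : (x : M7) = ckM ω
  hy : (y : M7) = shM F
  weil : Weil ω φ
  xm : x ∈ M
  ym : y ∈ M
  fm : ∀ A, φ A ∈ M
  sl : M ≤ SL7

/-- The Heisenberg group. -/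
abbrev R0 (x y : GL (Fin 7) F) : Subgroup (GL (Fin 7) F) := Subgroup.closure {x, y}

/-- A conjugate of `SL(ι, F₀)`. -/
def SLs {ι : Type} [Fintype ι] [DecidableEq ι] (F₀ : Subfield F) (P : GL ι F) : Subgroup (GL ι F) :=
  ((specialLinear ι F₀).map (GeneralLinearGroup.map (F₀.subtype : F₀ →+* F))).map
    (MulAut.conj P).toMonoidHom

/-- The image of the unitriangular generator is not real. -/
def NR {n : ℕ} (φ : SL(2, ZMod 7) →* GL (Fin n) F) : Prop :=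
  ((φ uu : GL (Fin n) F) : Matrix (Fin n) (Fin n) F).trace ≠
    ((φ uu⁻¹ : GL (Fin n) F) : Matrix (Fin n) (Fin n) F).trace

variable (F) in
/-- Basis of the odd vectors. -/
def E3 : Matrix (Fin 7) (Fin 3) F :=
  !![0, 0, 0; 1, 0, 0; 0, 1, 0; 0, 0, 1; 0, 0, -1; 0, -1, 0; -1, 0, 0]

variable (F) in
/-- Basis of the even vectors. -/
def E4 : Matrix (Fin 7) (Fin 4) F :=
  !![1, 0, 0, 0; 0, 1, 0, 0; 0, 0, 1, 0; 0, 0, 0, 1; 0, 0, 0, 1; 0, 0, 1, 0; 0, 1, 0, 0]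

variable (F) in
/-- Coordinates of the odd part. -/
def P3 : Matrix (Fin 3) (Fin 7) F := (2 : F)⁻¹ • (E3 F)ᵀ

variable (F) in
/-- Coordinates of the even part. -/
def P4 : Matrix (Fin 4) (Fin 7) F := diagonal ![1, (2 : F)⁻¹, (2 : F)⁻¹, (2 : F)⁻¹] * (E4 F)ᵀ

/-- `ι` identifies `GL₃ × GL₄` with the centraliser of the involution. -/
structure Blk (ι : GL (Fin 3) F × GL (Fin 4) F →* GL (Fin 7) F) : Prop where
  coe : ∀ a b, (ι (a, b) : M7) =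
    E3 F * (a : Matrix (Fin 3) (Fin 3) F) * P3 F + E4 F * (b : Matrix (Fin 4) (Fin 4) F) * P4 F
  inj : Function.Injective ι
  surj : ∀ g : GL (Fin 7) F, (g : M7) * zM F = zM F * g → ∃ c, ι c = g
  det : ∀ a b, (ι (a, b) : M7).det =
    (a : Matrix (Fin 3) (Fin 3) F).det * (b : Matrix (Fin 4) (Fin 4) F).det
  hz : (ι (1, -1) : M7) = zM F
  dq : ∀ (ω : F) a b, (ι (a, b) : M7) = dqM ω →
    (a : Matrix (Fin 3) (Fin 3) F) = diagonal ![ω, ω ^ 4, ω ^ 2] ∧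
    (b : Matrix (Fin 4) (Fin 4) F) = diagonal ![1, ω, ω ^ 4, ω ^ 2]
  tv3 : ∀ (M : Subgroup (GL (Fin 7) F)) a (v η : Fin 3 → F), ι (a, 1) ∈ M → v ≠ 0 → η ≠ 0 →
    η ⬝ᵥ v = 0 → (∀ x, (a : Matrix (Fin 3) (Fin 3) F) *ᵥ x = x + (η ⬝ᵥ x) • v) →
    ∃ v' η', v' ≠ 0 ∧ η' ≠ 0 ∧ Cl.D5.MT M v' η'
  tv4 : ∀ (M : Subgroup (GL (Fin 7) F)) b (η : Fin 4 → F), ι (1, b) ∈ M → η ≠ 0 → η 0 = 0 →
    (∀ x, (b : Matrix (Fin 4) (Fin 4) F) *ᵥ x = x + (η ⬝ᵥ x) • Pi.single 0 1) →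
    ∃ η', η' ≠ 0 ∧ Cl.D5.MT M (Pi.single 0 1) η'

variable (F) in
/-- The coordinates `1, 2, 3`. -/
def R3 : Matrix (Fin 3) (Fin 7) F :=
  !![0, 1, 0, 0, 0, 0, 0; 0, 0, 1, 0, 0, 0, 0; 0, 0, 0, 1, 0, 0, 0]

/-- The action on the odd vectors of a matrix commuting with the involution. -/
def r3 (g : M7) : Matrix (Fin 3) (Fin 3) F := R3 F * g * E3 F

/-- The unipotent radical of the centraliser of the involution in characteristic two. -/
def qM (a b : Fin 3 → F) (m : Matrix (Fin 3) (Fin 3) F) : M7 :=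
  1 + E3 F * m * (E3 F)ᵀ + vecMulVec (E3 F *ᵥ a) (Pi.single 0 1) +
    vecMulVec (Pi.single 0 1) (E3 F *ᵥ b)

/-- `M` contains an element with matrix `A`. -/
def In (M : Subgroup (GL (Fin 7) F)) (A : M7) : Prop := ∃ g ∈ M, (g : M7) = A

/-- The elements of `M` commuting with `z`. -/
abbrev Cz (M : Subgroup (GL (Fin 7) F)) (z : GL (Fin 7) F) : Subgroup (GL (Fin 7) F) :=
  M ⊓ Subgroup.centralizer {z}

end Cfsg.Agent.S7
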